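import Groth.Agent.MorLib.WeightBdd
import Groth.Agent.MorLib.QFSplit
import Groth.Agent.MorLib.WeightPositive
import Groth.Agent.Triage.GeomCount
import Groth.Prelude.Def_EGA43

/-!
# The geometric number of points of the fibres of a quasi-finite morphism
-/

set_option autoImplicit false
set_option linter.style.haveILetI false
set_option backward.isDefEq.respectTransparency false
set_option backward.isDefEq.respectTransparency.types false

universe u

namespace Groth.Agent.NGeomPts

open AlgebraicGeometry CategoryTheory Limits Filter Topology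
open Groth.Agent.MorLib Groth.Agent.MorLib.WT
open Groth.Agent.MorLib.GF (pt pt_comp)

variable {X Y : Scheme.{u}}

/-- Over an algebraically closed field the geometric number of points is the number of points. -/
theorem nGeomConnComp_algClosed {Ω : Type u} [Field Ω] [IsAlgClosed Ω] {P : Scheme.{u}}
    (π : P ⟶ Spec (CommRingCat.of Ω)) [LocallyQuasiFinite π] [LocallyOfFiniteType π]
    (p₀ : Spec (CommRingCat.of Ω)) : MoreMor.nGeomConnComp π p₀ = ENat.card P := by
  haveI := GP.discreteTopology_geomFiber π p₀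
  rw [MoreMor.nGeomConnComp, GP.card_connectedComponents_of_discrete]
  let x : PrimeSpectrum (CommRingCat.of Ω) := p₀
  haveI : x.asIdeal.IsMaximal := by
    rw [(Ideal.eq_bot_or_top x.asIdeal).resolve_right x.isPrime.ne_top]
    exact Ideal.bot_isMaximal
  haveI : IsAlgClosed ((Spec (CommRingCat.of Ω)).residueField p₀) :=
    IsAlgClosed.of_ringEquiv Ω _ ((RingEquiv.ofBijective (algebraMap Ω x.asIdeal.ResidueField)
      ⟨RingHom.injective _, Ideal.algebraMap_residueField_surjective x.asIdeal⟩).trans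
      (Scheme.Spec.residueFieldIso (CommRingCat.of Ω) x).commRingCatIsoToRingEquiv.symm)
  let k := (Spec (CommRingCat.of Ω)).residueField p₀
  haveI : IsIso (CommRingCat.ofHom (algebraMap k (SeparableClosure k))) :=
    (ConcreteCategory.isIso_iff_bijective _).2 IsAlgClosed.algebraMap_bijective_of_isIntegral
  let g : MoreMor.geomFiber π p₀ ⟶ P :=
    pullback.fst (π.fiberToSpecResidueField p₀)
      (Spec.map (CommRingCat.ofHom (algebraMap k (SeparableClosure k)))) ≫ π.fiberι p₀
  refine ENat.card_congr (Equiv.ofBijective g ⟨g.isEmbedding.injective, fun z => ?_⟩)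
  haveI : Subsingleton ↥(Spec (CommRingCat.of Ω)) := inferInstanceAs (Subsingleton (PrimeSpectrum Ω))
  obtain ⟨a, ha⟩ : z ∈ Set.range (π.fiberι p₀) := by
    rw [Scheme.Hom.range_fiberι]
    exact Subsingleton.elim (α := ↥(Spec (CommRingCat.of Ω))) _ _
  let q := pullback.fst (π.fiberToSpecResidueField p₀)
      (Spec.map (CommRingCat.ofHom (algebraMap k (SeparableClosure k))))
  haveI : IsIso q := inferInstance
  refine ⟨(inv q) a, ?_⟩
  have hqa : q ((inv q) a) = a := by
    rw [← Scheme.Hom.comp_apply, IsIso.inv_hom_id]; rfl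
  exact ((congrArg (fun b => (π.fiberι p₀) b) hqa).trans ha : _)

/-- The geometric number of points is the number of lifts of a geometric point. -/
theorem nGeomConnComp_eq_card_lifts (f : X ⟶ Y) [LocallyQuasiFinite f] [LocallyOfFiniteType f]
    {Ω : Type u} [Field Ω] [IsAlgClosed Ω] (yb : Spec (CommRingCat.of Ω) ⟶ Y) :
    MoreMor.nGeomConnComp f (pt yb) = ENat.card (Lifts f yb) := by
  let π := pullback.snd f yb
  have hc : IsPullback (pullback.fst f yb) π f yb := IsPullback.of_hasPullback _ _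
  haveI : LocallyQuasiFinite π := MorphismProperty.of_isPullback hc inferInstance
  haveI : LocallyOfFiniteType π := MorphismProperty.of_isPullback hc inferInstance
  rw [show pt yb = yb (IsLocalRing.closedPoint Ω) from rfl,
    ← (Triage.GeomCount.nGeom_baseChange f π (pullback.fst f yb) yb hc (IsLocalRing.closedPoint Ω)).2,
    nGeomConnComp_algClosed π]
  let F : Lifts f yb → ↥(pullback f yb) := fun δ =>
    pt (pullback.lift δ.1 (𝟙 _) (δ.2.trans (Category.id_comp _).symm))
  refine (ENat.card_congr (Equiv.ofBijective F ⟨fun δ δ' h => ?_, fun z => ?_⟩)).symm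
  · have h1 := injective_pt_lifts π
      (a₁ := ⟨_, pullback.lift_snd δ.1 (𝟙 _) (δ.2.trans (Category.id_comp _).symm)⟩)
      (a₂ := ⟨_, pullback.lift_snd δ'.1 (𝟙 _) (δ'.2.trans (Category.id_comp _).symm)⟩) h
    have h2 := congrArg (fun a => a.1 ≫ pullback.fst f yb) h1
    exact Subtype.ext ((pullback.lift_fst _ _ _).symm.trans (h2.trans (pullback.lift_fst _ _ _)))
  · haveI : Subsingleton ↥(Spec (CommRingCat.of Ω)) := inferInstanceAs (Subsingleton (PrimeSpectrum Ω))
    obtain ⟨δ, hδ⟩ := exists_lift_pt π (𝟙 _) z (Subsingleton.elim (α := ↥(Spec (CommRingCat.of Ω))) _ _)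
    refine ⟨⟨δ.1 ≫ pullback.fst f yb, ?_⟩, ?_⟩
    · rw [Category.assoc, pullback.condition, ← Category.assoc, δ.2, Category.id_comp]
    · refine (congrArg pt (pullback.hom_ext (pullback.lift_fst _ _ _) ?_)).trans hδ
      exact (pullback.lift_snd _ _ _).trans δ.2.symm

theorem nGeomConnComp_ne_top (f : X ⟶ Y) [LocallyQuasiFinite f] [LocallyOfFiniteType f] [QuasiCompact f]
    (y : Y) : MoreMor.nGeomConnComp f y ≠ ⊤ := by
  obtain ⟨Ω, _, _, yb, rfl⟩ := GF.exists_geomPoint y
  haveI := GF.finite_lifts f yb (f.finite_preimage_singleton _)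
  rw [nGeomConnComp_eq_card_lifts]
  exact (ENat.card_lt_top.2 inferInstance).ne

theorem isOpenAt_of_isPullback {T V : Scheme.{u}} {k : T ⟶ X} {π : T ⟶ V} {f : X ⟶ Y} {h : V ⟶ Y}
    (hc : IsPullback k π f h) (t : T) (hu : EGA43.IsUnivOpenAt f (k t)) : EGA43.IsOpenAt π.base t := by
  let e := hc.isoPullback
  have h1 : EGA43.IsOpenAt (pullback.snd f h).base (e.hom t) := hu V h (e.hom t) (by
    rw [← Scheme.Hom.comp_apply, hc.isoPullback_hom_fst])
  intro U hU
  have h2 : e.hom '' U ∈ 𝓝 (e.hom t) := e.hom.homeomorph.isOpenMap.image_mem_nhds hU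
  have h3 := h1 _ h2
  rwa [Set.image_image, show (fun a => (pullback.snd f h).base (e.hom a)) = π.base from funext fun a => by
    rw [← hc.isoPullback_hom_snd]; rfl, show (pullback.snd f h).base (e.hom t) = π.base t by
    rw [← hc.isoPullback_hom_snd]; rfl] at h3

/-- Étale-local decomposition around a point over which `f` is universally open. -/
theorem exists_pieces (f : X ⟶ Y) [IsSeparated f] [LocallyQuasiFinite f] [LocallyOfFiniteType f]
    [QuasiCompact f] (y : Y) (hu : ∀ x : X, f x = y → EGA43.IsUnivOpenAt f x) :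
    ∃ (T V : Scheme.{u}) (k : T ⟶ X) (π : T ⟶ V) (h : V ⟶ Y) (v : V) (ι : Type u) (_ : Finite ι)
      (W : ι → T.Opens), IsPullback k π f h ∧ Etale h ∧ h v = y ∧
      MoreMor.nGeomConnComp f y = ENat.card ι ∧ (∀ i, IsFinite ((W i).ι ≫ π)) ∧
      (∀ i t, t ∈ W i → π t = v → ∀ t' ∈ W i, π t' = v → t' = t) ∧
      ∀ᶠ v' in 𝓝 v, ENat.card ι ≤ MoreMor.nGeomConnComp f (h v') ∧
        (MoreMor.nGeomConnComp f (h v') = ENat.card ι → (∀ t, π t = v' → ∃ i, t ∈ W i) ∧
          ∀ i, ∀ t ∈ W i, ∀ t' ∈ W i, π t = v' → π t' = v' → t' = t) := by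
  obtain ⟨Ω, _, _, yb, rfl⟩ := GF.exists_geomPoint y
  haveI := GF.finite_lifts f yb (f.finite_preimage_singleton _)
  obtain ⟨T, V, k, π, h, vb, W, δ, hc, he, rfl, hp⟩ := exists_decomp f yb id
  haveI : LocallyQuasiFinite π := MorphismProperty.of_isPullback hc inferInstance
  haveI : IsSeparated π := MorphismProperty.of_isPullback hc inferInstance
  haveI : LocallyOfFiniteType π := MorphismProperty.of_isPullback hc inferInstance
  refine ⟨T, V, k, π, h, pt vb, _, inferInstance, W, hc, he, (pt_comp vb h).symm,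
    nGeomConnComp_eq_card_lifts f _, fun i => (hp i).1.finite, fun i t ht htv t' ht' htv' =>
      ((hp i).1.eq_of_over' ht' htv').trans ((hp i).1.eq_of_over' ht htv).symm, ?_⟩
  have hne : ∀ i j, i ≠ j → δ i ≠ δ j := fun i j hij e =>
    hij (Subtype.ext ((hp i).2.symm.trans ((congrArg (· ≫ k) e).trans (hp j).2)))
  have h2 : ∀ᶠ v' in 𝓝 (pt vb), ∀ i j, i ≠ j → ∀ t ∈ W i, π t = v' → t ∉ W j := by
    simp only [eventually_all]
    exact fun i j hij => (hp i).1.eventually_disjoint' (hp j).1 (hne i j hij)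
  have h3 : ∀ᶠ v' in 𝓝 (pt vb), ∀ i, ∃ t ∈ W i, π t = v' := eventually_all.mpr fun i => by
    have hopen : EGA43.IsOpenAt π.base (pt (δ i)) := isOpenAt_of_isPullback hc _ (hu _ (by
      rw [← Scheme.Hom.comp_apply, hc.w, ← pt_comp (δ i), ← Category.assoc, (hp i).1.over]))
    have h4 := hopen _ ((W i).2.mem_nhds (hp i).1.mem)
    rw [show π.base (pt (δ i)) = pt vb from (pt_comp (δ i) π).symm.trans (congrArg pt (hp i).1.over)] at h4
    filter_upwards [h4] with v' hv'
    obtain ⟨t, ht, rfl⟩ := hv'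
    exact ⟨t, ht, rfl⟩
  filter_upwards [h2, h3] with v' hdis hsurj
  obtain ⟨Ω', _, _, vb', rfl⟩ := GF.exists_geomPoint v'
  have hn : MoreMor.nGeomConnComp f (h (pt vb')) = ENat.card (Lifts π vb') := by
    rw [← (Triage.GeomCount.nGeom_baseChange f π k h hc (pt vb')).2, nGeomConnComp_eq_card_lifts]
  choose t htW htv using hsurj
  choose ε hε using fun i => exists_lift_pt π vb' (t i) (htv i)
  have hεinj : Function.Injective ε := fun i j e => by
    by_contra hij
    exact hdis i j hij (t i) (htW i) (htv i) (by rw [← hε i, e, hε j]; exact htW j)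
  rw [hn]
  refine ⟨ENat.card_le_card_of_injective hεinj, fun hcard => ?_⟩
  haveI : Finite (Lifts π vb') := ENat.card_lt_top.1 (hcard ▸ ENat.card_lt_top.2 inferInstance)
  have hsur : Function.Surjective ε := by
    refine ((Nat.bijective_iff_injective_and_card ε).2 ⟨hεinj, ?_⟩).2
    rw [ENat.card_eq_coe_natCard, ENat.card_eq_coe_natCard] at hcard
    exact_mod_cast hcard.symm
  have hall : ∀ s, π s = pt vb' → ∃ i, s = t i := fun s hs => by
    obtain ⟨η, hη⟩ := exists_lift_pt π vb' s hs
    obtain ⟨i, rfl⟩ := hsur η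
    exact ⟨i, hη.symm.trans (hε i)⟩
  refine ⟨fun s hs => ?_, fun i a ha b hb hav hbv => ?_⟩
  · obtain ⟨i, rfl⟩ := hall s hs
    exact ⟨i, htW i⟩
  · obtain ⟨j, rfl⟩ := hall a hav
    obtain ⟨j', rfl⟩ := hall b hbv
    obtain rfl : j = i := by_contra fun h => hdis j i h _ (htW j) (htv j) ha
    obtain rfl : j' = j := by_contra fun h => hdis j' j h _ (htW j') (htv j') hb
    rfl

/-- Lower semicontinuity of the geometric number of points. -/
theorem eventually_le (f : X ⟶ Y) [IsSeparated f] [LocallyQuasiFinite f] [LocallyOfFiniteType f]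
    [QuasiCompact f] (y : Y) (hu : ∀ x : X, f x = y → EGA43.IsUnivOpenAt f x) :
    ∀ᶠ z in 𝓝 y, MoreMor.nGeomConnComp f y ≤ MoreMor.nGeomConnComp f z := by
  obtain ⟨T, V, k, π, h, v, ι, _, W, -, he, rfl, hn, -, -, hev⟩ := exists_pieces f y hu
  refine eventually_of_etale h ?_
  filter_upwards [hev] with v' hv'
  exact hn ▸ hv'.1

end Groth.Agent.NGeomPts
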