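import Groth.Agent.KrullAkiExt.Basic
import Mathlib

/-!
# Extensions of a discrete valuation ring containing given finite extensions of the residue and fraction fields
-/

set_option autoImplicit false
set_option linter.style.haveILetI false
set_option backward.isDefEq.respectTransparency false
set_option backward.isDefEq.respectTransparency.types false

universe u

namespace Groth.Agent.NGeomPts

open IsLocalRing Polynomial

theorem splits_integralClosure {A₀ L : Type u} [CommRing A₀] [Field L] [Algebra A₀ L] {p : A₀[X]} (hp : p.Monic)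
    (h : (p.map (algebraMap A₀ L)).Splits) :
    (p.map (algebraMap A₀ (integralClosure A₀ L))).Splits := by
  have hmap : (p.map (algebraMap A₀ (integralClosure A₀ L))).map (algebraMap (integralClosure A₀ L) L) =
      p.map (algebraMap A₀ L) := by
    rw [Polynomial.map_map, ← IsScalarTower.algebraMap_eq]
  refine Polynomial.Splits.of_splits_map_of_injective (i := algebraMap (integralClosure A₀ L) L) Subtype.val_injective
    (by rw [hmap]; exact h) fun a ha => ?_
  rw [hmap, Polynomial.mem_roots (hp.map _).ne_zero] at ha
  refine ⟨⟨a, p, hp, ?_⟩, rfl⟩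
  rw [← Polynomial.aeval_def, ← Polynomial.eval_map_algebraMap]
  exact ha

/-- A discrete valuation ring over `A₀` whose residue field receives `k'` and whose fraction field receives `L'`. -/
theorem exists_dvr_ext (A₀ : Type u) [CommRing A₀] [IsDomain A₀] [IsDiscreteValuationRing A₀]
    (k' : Type u) [Field k'] [Algebra (ResidueField A₀) k'] [FiniteDimensional (ResidueField A₀) k']
    (L' : Type u) [Field L'] [Algebra A₀ L'] [Algebra (FractionRing A₀) L'] [IsScalarTower A₀ (FractionRing A₀) L']
    [FiniteDimensional (FractionRing A₀) L'] :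
    ∃ (A : Type u) (_ : CommRing A) (_ : IsDomain A) (_ : IsDiscreteValuationRing A) (L : Type u) (_ : Field L)
      (_ : Algebra A L) (_ : IsFractionRing A L) (j : A₀ →+* A) (_ : IsLocalHom j)
      (ν : k' →+* ResidueField A) (μ : L' →+* L),
      ν.comp (algebraMap (ResidueField A₀) k') = ResidueField.map j ∧
      μ.comp (algebraMap A₀ L') = (algebraMap A L).comp j := by
  classical
  let k₀ := ResidueField A₀
  let K₀ := FractionRing A₀
  let b := Module.finBasis k₀ k'
  have hint : ∀ i, IsIntegral k₀ (b i) := fun i => Algebra.IsIntegral.isIntegral _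
  have hlift : ∀ i, ∃ q : A₀[X], q.map (residue A₀) = minpoly k₀ (b i) ∧ q.Monic := fun i => by
    obtain ⟨q, hq, -, hm⟩ := Polynomial.lifts_and_natDegree_eq_and_monic
      (Polynomial.map_surjective (residue A₀) residue_surjective (minpoly k₀ (b i))) (minpoly.monic (hint i))
    exact ⟨q, hq, hm⟩
  choose q hq hqm using hlift
  let P : A₀[X] := ∏ i, q i
  have hP : P.Monic := monic_prod_of_monic _ _ fun i _ => hqm i
  let L := (P.map (algebraMap A₀ L')).SplittingField
  haveI : IsScalarTower A₀ L' L := inferInstance
  haveI : IsScalarTower K₀ L' L := inferInstance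
  haveI : IsScalarTower A₀ K₀ L := IsScalarTower.of_algebraMap_eq fun a => by
    rw [IsScalarTower.algebraMap_apply A₀ L' L, IsScalarTower.algebraMap_apply K₀ L' L,
      ← IsScalarTower.algebraMap_apply A₀ K₀ L']
  haveI : FiniteDimensional K₀ L := Module.Finite.trans L' L
  have hsplit : ∀ i, ((q i).map (algebraMap A₀ L)).Splits := fun i => by
    have h : ((P.map (algebraMap A₀ L')).map (algebraMap L' L)).Splits := SplittingField.splits _
    rw [Polynomial.map_map, ← IsScalarTower.algebraMap_eq A₀ L' L] at h
    exact h.of_dvd (hP.map _).ne_zero (Polynomial.map_dvd _ (Finset.dvd_prod_of_mem _ (Finset.mem_univ i)))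
  let B := integralClosure A₀ L
  have hAL : Function.Injective (algebraMap A₀ L) := by
    rw [IsScalarTower.algebraMap_eq A₀ K₀ L, RingHom.coe_comp]
    exact (algebraMap K₀ L).injective.comp (IsFractionRing.injective A₀ K₀)
  haveI : IsNoetherianRing B :=
    KrullAkiExt.isNoetherianRing_of_injective (R := A₀) (K := K₀) L B Subtype.val_injective
  haveI : IsFractionRing B L := integralClosure.isFractionRing_of_finite_extension K₀ L
  haveI : IsIntegrallyClosed B := integralClosure.isIntegrallyClosedOfFiniteExtension K₀
  haveI : Ring.DimensionLEOne B := Ring.DimensionLEOne.integralClosure A₀ L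
  haveI : IsDedekindDomain B := {}
  have hAB : Function.Injective (algebraMap A₀ B) := fun x y e => hAL (congrArg Subtype.val e)
  have hBf : ¬ IsField B := fun hf => IsDiscreteValuationRing.not_isField A₀
    (isField_of_isIntegral_of_isField hAB hf)
  obtain ⟨m, hm⟩ := Ideal.exists_maximal B
  have hm0 : m ≠ ⊥ := fun h => hBf (Ring.isField_iff_maximal_bot.2 (h ▸ hm))
  let A := Localization.AtPrime m
  haveI : IsDiscreteValuationRing A := IsLocalization.AtPrime.isDiscreteValuationRing_of_dedekind_domain B hm0 A
  have hle : m.primeCompl ≤ nonZeroDivisors B := m.primeCompl_le_nonZeroDivisors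
  letI : Algebra A L := (IsLocalization.lift (M := m.primeCompl) (g := algebraMap B L)
    fun y => IsLocalization.map_units L (⟨y.1, hle y.2⟩ : nonZeroDivisors B)).toAlgebra
  haveI : IsScalarTower B A L := IsScalarTower.of_algebraMap_eq fun x => (IsLocalization.lift_eq _ x).symm
  haveI : IsFractionRing A L := IsFractionRing.isFractionRing_of_isDomain_of_isLocalization m.primeCompl A L
  let j : A₀ →+* A := (algebraMap B A).comp (algebraMap A₀ B)
  haveI hj : IsLocalHom j := ⟨fun a ha => by
    by_contra hna
    haveI : (m.comap (algebraMap A₀ B)).IsMaximal := Ideal.isMaximal_comap_of_isIntegral_of_isMaximal m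
    have h1 : algebraMap A₀ B a ∈ m := by
      show a ∈ m.comap (algebraMap A₀ B)
      rw [IsLocalRing.eq_maximalIdeal ‹(m.comap (algebraMap A₀ B)).IsMaximal›]
      exact hna
    exact (IsLocalization.AtPrime.to_map_mem_maximal_iff A m _).2 h1 ha⟩
  let kA := ResidueField A
  letI : Algebra k₀ kA := (ResidueField.map j).toAlgebra
  have hsk : ∀ x ∈ Set.range b, IsIntegral k₀ x ∧ ((minpoly k₀ x).map (algebraMap k₀ kA)).Splits := by
    rintro _ ⟨i, rfl⟩
    refine ⟨hint i, ?_⟩
    have h := (splits_integralClosure (hqm i) (hsplit i)).map ((residue A).comp (algebraMap B A))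
    rw [Polynomial.map_map] at h
    rw [← hq i, Polynomial.map_map]
    convert h using 2
    exact RingHom.ext fun x => rfl
  obtain ⟨ν⟩ := IntermediateField.nonempty_algHom_of_adjoin_splits (K := kA) hsk (by
    refine eq_top_iff.2 fun x _ => ?_
    rw [← b.sum_repr x]
    exact sum_mem fun i _ => IntermediateField.smul_mem _ (IntermediateField.subset_adjoin _ _ (Set.mem_range_self i)))
  refine ⟨A, inferInstance, inferInstance, inferInstance, L, inferInstance, inferInstance, inferInstance, j, hj,
    ν.toRingHom, algebraMap L' L, RingHom.ext fun x => ν.commutes x, RingHom.ext fun x => ?_⟩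
  show algebraMap L' L (algebraMap A₀ L' x) = algebraMap A L (algebraMap B A (algebraMap A₀ B x))
  rw [← IsScalarTower.algebraMap_apply B A L]
  rfl

end Groth.Agent.NGeomPts
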