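import Groth.Agent.NGeomPts.Basic

/-!
# A quasi-finite morphism with constant geometric number of points is finite
-/

set_option autoImplicit false
set_option linter.style.haveILetI false
set_option backward.isDefEq.respectTransparency false
set_option backward.isDefEq.respectTransparency.types false

universe u

namespace Groth.Agent.NGeomPts

open AlgebraicGeometry CategoryTheory Limits Filter Topology
open Groth.Agent.MorLib Groth.Agent.MorLib.WT

variable {X Y : Scheme.{u}}

theorem exists_finite_nhd (f : X ⟶ Y) [IsSeparated f] [LocallyQuasiFinite f] [LocallyOfFiniteType f]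
    [QuasiCompact f] (y : Y) (hu : ∀ x : X, f x = y → EGA43.IsUnivOpenAt f x)
    (hc : ∀ᶠ z in 𝓝 y, MoreMor.nGeomConnComp f z = MoreMor.nGeomConnComp f y) :
    ∃ U : Y.Opens, y ∈ U ∧ IsFinite (f ∣_ U) := by
  obtain ⟨T, V, k, π, h, v, ι, _, W, hsq, he, rfl, hn, hW, -, hev⟩ := exists_pieces f y hu
  obtain ⟨N, hN, hNo, hvN⟩ := mem_nhds_iff.mp (hev.and (h.continuous.continuousAt.eventually hc))
  let N' : V.Opens := ⟨N, hNo⟩
  let hN' : (N' : Scheme.{u}) ⟶ Y := N'.ι ≫ h
  let O : Y.Opens := ⟨Set.range hN', hN'.isOpenMap.isOpen_range⟩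
  refine ⟨O, ⟨⟨v, hvN⟩, Scheme.Hom.comp_apply ..⟩, ?_⟩
  let g := IsOpenImmersion.lift O.ι hN' (by rw [Scheme.Opens.range_ι]; exact subset_rfl)
  have hgι : g ≫ O.ι = hN' := IsOpenImmersion.lift_fac ..
  haveI : Surjective g := ⟨fun ⟨_, a, rfl⟩ => ⟨a, O.ι.isOpenEmbedding.injective (by
    rw [← Scheme.Hom.comp_apply, hgι]; rfl)⟩⟩
  haveI : Etale g := by
    haveI : Etale (g ≫ O.ι) := by rw [hgι]; infer_instance
    exact Etale.of_comp g O.ι
  let TN := pullback.snd (f ∣_ O) g
  have hsq' : IsPullback (pullback.fst (f ∣_ O) g ≫ (f ⁻¹ᵁ O).ι) TN f hN' := by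
    rw [← hgι]
    exact (IsPullback.of_hasPullback _ _).paste_horiz (isPullback_morphismRestrict f O).flip
  have hc' : IsPullback ((π ⁻¹ᵁ N').ι ≫ k) (π ∣_ N') f hN' :=
    (isPullback_morphismRestrict π N').flip.paste_horiz hsq
  let e := hsq'.isoIsPullback _ _ hc'
  have he' : e.hom ≫ (π ∣_ N') = TN := hsq'.isoIsPullback_hom_snd _ _ hc'
  have hπ : IsFinite TN := by
    rw [← he']
    suffices IsFinite (π ∣_ N') by infer_instance
    haveI : LocallyQuasiFinite (π ∣_ N') := MorphismProperty.of_isPullback hc' inferInstance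
    haveI : IsSeparated (π ∣_ N') := MorphismProperty.of_isPullback hc' inferInstance
    haveI : LocallyOfFiniteType (π ∣_ N') := MorphismProperty.of_isPullback hc' inferInstance
    haveI : UniversallyClosed (π ∣_ N') := by
      refine universallyClosed_of_cover _ (fun i => (π ⁻¹ᵁ N').ι ⁻¹ᵁ W i) (fun t => ?_) fun i => ?_
      · obtain ⟨⟨-, h2⟩, h3⟩ := hN t.2
        exact (h2 (h3.trans hn)).1 t.1 rfl
      · haveI : IsFinite (((π ⁻¹ᵁ N').ι ⁻¹ᵁ W i).ι ≫ (π ∣_ N')) :=
          MorphismProperty.of_isPullback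
            ((isPullback_morphismRestrict (π ⁻¹ᵁ N').ι (W i)).paste_vert
              (isPullback_morphismRestrict π N').flip) (hW i)
        infer_instance
    haveI : IsProper (π ∣_ N') := ⟨⟩
    exact IsFinite.of_isProper_of_locallyQuasiFinite _
  haveI := Groth.Agent.EtFound.fpqc_isFinite.{u}
  exact MorphismProperty.of_isPullback_of_descendsAlong (P := @IsFinite)
    (Q := @Surjective ⊓ @Flat ⊓ @LocallyOfFinitePresentation)
    (IsPullback.of_hasPullback (f ∣_ O) g).flip ⟨⟨inferInstance, inferInstance⟩, inferInstance⟩ hπ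

end Groth.Agent.NGeomPts
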