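import Groth.Agent.NGeomPts.Basic
import Mathlib.FieldTheory.IntermediateField.Adjoin.Basic

/-!
# A field over which all geometric points of a fibre are rational
-/

set_option autoImplicit false
set_option linter.style.haveILetI false
set_option backward.isDefEq.respectTransparency false
set_option backward.isDefEq.respectTransparency.types false

universe u

namespace Groth.Agent.NGeomPts

open AlgebraicGeometry CategoryTheory Limits IsLocalRing
open Groth.Agent.MorLib Groth.Agent.MorLib.WT
open Groth.Agent.MorLib.GF (pt pt_comp)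

variable {X Y : Scheme.{u}}

/-- A field-valued point at `y` is given by a map out of the residue field of `y`. -/
theorem exists_residueHom {F : Type u} [Field F] (c : Spec (CommRingCat.of F) ⟶ Y) (y : Y)
    (h : c (closedPoint F) = y) :
    ∃ φ : Y.residueField y ⟶ CommRingCat.of F, c = Spec.map φ ≫ Y.fromSpecResidueField y := by
  obtain ⟨⟨x, φ⟩, rfl⟩ := (Scheme.SpecToEquivOfField F Y).symm.surjective c
  obtain rfl : x = y := by
    rw [← h]
    show x = (Spec.map φ ≫ Y.fromSpecResidueField x) _
    rw [Scheme.Hom.comp_apply, Scheme.fromSpecResidueField_apply]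
  exact ⟨φ, rfl⟩

theorem hom_eq_of_pt_eq {F : Type u} [Field F] (π : X ⟶ Spec (CommRingCat.of F))
    (s s' : Spec (CommRingCat.of F) ⟶ X) (hs : s ≫ π = 𝟙 _) (hs' : s' ≫ π = 𝟙 _)
    (h : pt s = pt s') : s = s' := by
  obtain ⟨α, hα⟩ := exists_residueHom s (pt s') h
  obtain ⟨α', hα'⟩ := exists_residueHom s' (pt s') rfl
  obtain ⟨χ, hχ⟩ := Spec.map_surjective (X.fromSpecResidueField (pt s') ≫ π)
  have key : ∀ (β : X.residueField (pt s') ⟶ CommRingCat.of F),
      (Spec.map β ≫ X.fromSpecResidueField (pt s')) ≫ π = 𝟙 _ →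
      Function.Surjective χ.hom ∧ χ ≫ β = 𝟙 _ := fun β hβ => by
    rw [Category.assoc, ← hχ, ← Spec.map_comp] at hβ
    have h1 : χ ≫ β = 𝟙 _ := Spec.map_inj.1 (by rw [hβ, Spec.map_id])
    refine ⟨fun a => ⟨β.hom a, β.hom.injective ?_⟩, h1⟩
    exact ConcreteCategory.congr_hom h1 (β.hom a)
  obtain ⟨hsur, h1⟩ := key α (hα ▸ hs)
  obtain ⟨-, h2⟩ := key α' (hα' ▸ hs')
  have : α = α' := by
    ext a
    obtain ⟨b, rfl⟩ := hsur a
    exact (ConcreteCategory.congr_hom h1 b).trans (ConcreteCategory.congr_hom h2 b).symm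
  exact hα.trans ((congrArg (fun β => Spec.map β ≫ X.fromSpecResidueField (pt s')) this).trans hα'.symm)

theorem card_le_nGeomConnComp {F : Type u} [Field F] (π : X ⟶ Spec (CommRingCat.of F))
    [LocallyQuasiFinite π] [LocallyOfFiniteType π] (p₀ : Spec (CommRingCat.of F)) :
    ENat.card X ≤ MoreMor.nGeomConnComp π p₀ := by
  haveI := GP.discreteTopology_geomFiber π p₀
  rw [MoreMor.nGeomConnComp, GP.card_connectedComponents_of_discrete]
  let k := (Spec (CommRingCat.of F)).residueField p₀
  let b := Spec.map (CommRingCat.ofHom (algebraMap k (SeparableClosure k)))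
  haveI : Subsingleton ↥(Spec (CommRingCat.of F)) := inferInstanceAs (Subsingleton (PrimeSpectrum F))
  haveI : Subsingleton ↥(Spec ((Spec (CommRingCat.of F)).residueField p₀)) :=
    inferInstanceAs (Subsingleton (PrimeSpectrum k))
  haveI : Nonempty ↥(Spec (CommRingCat.of (SeparableClosure k))) :=
    inferInstanceAs (Nonempty (PrimeSpectrum (SeparableClosure k)))
  haveI : Surjective b := ⟨fun z => ⟨Classical.arbitrary _, Subsingleton.elim _ _⟩⟩
  haveI : Surjective (pullback.fst (π.fiberToSpecResidueField p₀) b) :=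
    MorphismProperty.pullback_fst (P := @Surjective) _ _ inferInstance
  have hz : ∀ z : X, ∃ a : ↥(MoreMor.geomFiber π p₀),
      (π.fiberι p₀) (pullback.fst (π.fiberToSpecResidueField p₀) b a) = z := fun z => by
    obtain ⟨a, ha⟩ : z ∈ Set.range (π.fiberι p₀) := by
      rw [Scheme.Hom.range_fiberι]
      exact Subsingleton.elim (α := ↥(Spec (CommRingCat.of F))) _ _
    obtain ⟨c, hc⟩ := (pullback.fst (π.fiberToSpecResidueField p₀) b).surjective a
    exact ⟨c, by rw [hc, ha]⟩
  choose g hg using hz
  exact ENat.card_le_card_of_injective (f := g) fun z z' h => by rw [← hg z, ← hg z', h]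

theorem exists_residueFieldMap_comp {F : Type u} [Field F] (f : X ⟶ Y) {x : X} {y : Y}
    (σ : X.residueField x ⟶ CommRingCat.of F) (τ : Y.residueField y ⟶ CommRingCat.of F)
    (h : (Spec.map σ ≫ X.fromSpecResidueField x) ≫ f = Spec.map τ ≫ Y.fromSpecResidueField y) :
    ∃ hx : f x = y, f.residueFieldMap x ≫ σ = (Y.residueFieldCongr hx).hom ≫ τ :=
  Scheme.SpecToEquivOfField_eq_iff.1 ((Scheme.SpecToEquivOfField F Y).symm.injective
    (show (Scheme.SpecToEquivOfField F Y).symm ⟨f x, f.residueFieldMap x ≫ σ⟩ =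
        (Scheme.SpecToEquivOfField F Y).symm ⟨y, τ⟩ by
      show Spec.map (f.residueFieldMap x ≫ σ) ≫ Y.fromSpecResidueField (f x) = _
      rw [Spec.map_comp, Category.assoc, Scheme.Hom.SpecMap_residueFieldMap_fromSpecResidueField]
      exact (Category.assoc _ _ _).symm.trans h))

theorem comp_eq_of_residueFieldMap_comp {F : Type u} [Field F] (f : X ⟶ Y) {x : X} {y : Y}
    (σ : X.residueField x ⟶ CommRingCat.of F) (τ : Y.residueField y ⟶ CommRingCat.of F) (hx : f x = y)
    (h : f.residueFieldMap x ≫ σ = (Y.residueFieldCongr hx).hom ≫ τ) :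
    (Spec.map σ ≫ X.fromSpecResidueField x) ≫ f = Spec.map τ ≫ Y.fromSpecResidueField y := by
  subst hx
  rw [Category.assoc, ← Scheme.Hom.SpecMap_residueFieldMap_fromSpecResidueField, ← Category.assoc,
    ← Spec.map_comp, h]
  simp

/-- A finite extension of the residue field over which all geometric points of the fibre are rational. -/
theorem exists_splitting (f : X ⟶ Y) [LocallyQuasiFinite f] [LocallyOfFiniteType f] [QuasiCompact f] (y : Y) :
    ∃ (K' : Type u) (_ : Field K') (φ : Y.residueField y ⟶ CommRingCat.of K'), φ.hom.Finite ∧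
      ∀ (F : Type u) [Field F] (a : Spec (CommRingCat.of F) ⟶ Spec (CommRingCat.of K')),
        ENat.card ↥(pullback f (a ≫ Spec.map φ ≫ Y.fromSpecResidueField y)) = MoreMor.nGeomConnComp f y := by
  classical
  let k := Y.residueField y
  let Ω := AlgebraicClosure k
  let yb : Spec (CommRingCat.of Ω) ⟶ Y :=
    Spec.map (CommRingCat.ofHom (algebraMap k Ω)) ≫ Y.fromSpecResidueField y
  have hyb : pt yb = y := (Scheme.Hom.comp_apply _ _ _).trans (Scheme.fromSpecResidueField_apply _ _)
  haveI := GF.finite_lifts f yb (f.finite_preimage_singleton _)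
  have hdata : ∀ δ : Lifts f yb, ∃ (x : X) (σ : X.residueField x ⟶ CommRingCat.of Ω) (s : Finset Ω),
      δ.1 = Spec.map σ ≫ X.fromSpecResidueField x ∧ ∀ a, σ.hom a ∈ IntermediateField.adjoin k (s : Set Ω) := by
    rintro ⟨δ, hδ⟩
    obtain ⟨⟨x, σ⟩, rfl⟩ := (Scheme.SpecToEquivOfField Ω X).symm.surjective δ
    obtain ⟨hx, hσ⟩ := exists_residueFieldMap_comp f σ (CommRingCat.ofHom (algebraMap k Ω)) hδ
    letI := (f.residueFieldMap x).hom.toAlgebra
    haveI : Module.Finite (Y.residueField (f x)) (X.residueField x) := GF.finite_residueFieldMap f x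
    obtain ⟨t, ht⟩ := (inferInstance : Module.Finite (Y.residueField (f x)) (X.residueField x)).fg_top
    refine ⟨x, σ, t.image σ.hom, rfl, fun a => ?_⟩
    have ha : a ∈ Submodule.span (Y.residueField (f x)) (t : Set (X.residueField x)) := ht ▸ Submodule.mem_top
    induction ha using Submodule.span_induction with
    | mem b hb => exact IntermediateField.subset_adjoin _ _ (Finset.mem_coe.2 (Finset.mem_image_of_mem _ hb))
    | zero => rw [map_zero]; exact zero_mem _
    | add b c _ _ hb hc => rw [map_add]; exact add_mem hb hc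
    | smul r b _ hb =>
      rw [show r • b = (f.residueFieldMap x).hom r * b from rfl, map_mul]
      refine mul_mem ?_ hb
      rw [show σ.hom ((f.residueFieldMap x).hom r) = algebraMap k Ω ((Y.residueFieldCongr hx).hom r) from
        ConcreteCategory.congr_hom hσ r]
      exact IntermediateField.algebraMap_mem _ _
  choose x σ s hδ hσs using hdata
  let K' : IntermediateField k Ω := IntermediateField.adjoin k (⋃ δ, (s δ : Set Ω))
  haveI : FiniteDimensional k K' := by
    haveI : Finite ↥(⋃ δ, (s δ : Set Ω)) := (Set.finite_iUnion fun δ => (s δ).finite_toSet).to_subtype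
    exact IntermediateField.finiteDimensional_adjoin fun a _ => (Algebra.IsAlgebraic.isAlgebraic a).isIntegral
  refine ⟨K', inferInstance, CommRingCat.ofHom (algebraMap k K'), RingHom.finite_algebraMap.mpr inferInstance,
    fun F _ a => ?_⟩
  obtain ⟨ι, rfl⟩ := Spec.map_surjective a
  let c := Spec.map ι ≫ Spec.map (CommRingCat.ofHom (algebraMap k K')) ≫ Y.fromSpecResidueField y
  let π := pullback.snd f c
  have hc : IsPullback (pullback.fst f c) π f c := IsPullback.of_hasPullback _ _
  haveI : LocallyQuasiFinite π := MorphismProperty.of_isPullback hc inferInstance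
  haveI : LocallyOfFiniteType π := MorphismProperty.of_isPullback hc inferInstance
  have hcy : c (closedPoint F) = y := by
    rw [Scheme.Hom.comp_apply, Scheme.Hom.comp_apply]
    exact Scheme.fromSpecResidueField_apply y _
  have hn : MoreMor.nGeomConnComp f y = ENat.card (Lifts f yb) :=
    (congrArg (MoreMor.nGeomConnComp f) hyb).symm.trans (nGeomConnComp_eq_card_lifts f yb)
  refine le_antisymm ((card_le_nGeomConnComp π (closedPoint F)).trans (le_of_eq ?_)) ?_
  · rw [(Triage.GeomCount.nGeom_baseChange f π (pullback.fst f c) c hc (closedPoint F)).2, hcy]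
  rw [hn]
  let σ' : ∀ δ, X.residueField (x δ) ⟶ CommRingCat.of K' := fun δ =>
    CommRingCat.ofHom ((σ δ).hom.codRestrict K'.toSubfield fun a =>
      IntermediateField.adjoin.mono k _ _ (Set.subset_iUnion (fun δ => (s δ : Set Ω)) δ) (hσs δ a))
  have hval : ∀ δ, σ' δ ≫ CommRingCat.ofHom (algebraMap K' Ω) = σ δ := fun δ => rfl
  have hK' : ∀ δ, (Spec.map (σ' δ) ≫ X.fromSpecResidueField (x δ)) ≫ f =
      Spec.map (CommRingCat.ofHom (algebraMap k K')) ≫ Y.fromSpecResidueField y := fun δ => by
    obtain ⟨hx, hσ⟩ := exists_residueFieldMap_comp f (σ δ) (CommRingCat.ofHom (algebraMap k Ω))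
      ((congrArg (fun q => q ≫ f) (hδ δ)).symm.trans δ.2)
    refine comp_eq_of_residueFieldMap_comp f (σ' δ) (CommRingCat.ofHom (algebraMap k K')) hx ?_
    ext a
    exact ConcreteCategory.congr_hom hσ a
  let L : Lifts f yb → ↥(pullback f c) := fun δ =>
    pt (pullback.lift (Spec.map ι ≫ Spec.map (σ' δ) ≫ X.fromSpecResidueField (x δ)) (𝟙 _) (by
      rw [Category.assoc, hK', Category.id_comp]))
  refine ENat.card_le_card_of_injective (f := L) fun δ δ' h => ?_
  have h1 := congrArg (fun q => q ≫ pullback.fst f c)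
    (hom_eq_of_pt_eq π _ _ (pullback.lift_snd _ _ _) (pullback.lift_snd _ _ _) h)
  simp only [pullback.lift_fst] at h1
  rw [← Spec.map_comp_assoc, ← Spec.map_comp_assoc] at h1
  have h1' : (Scheme.SpecToEquivOfField F X).symm ⟨x δ, σ' δ ≫ ι⟩ =
      (Scheme.SpecToEquivOfField F X).symm ⟨x δ', σ' δ' ≫ ι⟩ := h1
  obtain ⟨hx, h2⟩ := Scheme.SpecToEquivOfField_eq_iff.1 ((Scheme.SpecToEquivOfField F X).symm.injective h1')
  have h3 : σ' δ = (X.residueFieldCongr hx).hom ≫ σ' δ' := by
    ext a
    exact congrArg Subtype.val (ι.hom.injective (ConcreteCategory.congr_hom h2 a))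
  refine Subtype.ext ?_
  rw [hδ δ, hδ δ', ← hval δ, ← hval δ', h3, Category.assoc, Spec.map_comp (X.residueFieldCongr hx).hom,
    Category.assoc, Scheme.residueFieldCongr_fromSpecResidueField]

end Groth.Agent.NGeomPts
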